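import Mathlib
import Cfsg.Agent.Base

/-! # Explicit models of the unitriangular group `UT₅(2)` and of its quotient by the centre -/

set_option autoImplicit false
set_option maxRecDepth 100000

namespace H55.SylT

/-- `UT₅(2)` modulo the corner entry. The entries in positions `12, 13, 14` are `a, b, c`, those in
positions `23, 24, 34` are `u, v, w`, those in positions `25, 35, 45` are `p, q, r`. -/
@[ext] structure S9 where
  a : Bool
  b : Bool
  c : Bool
  u : Bool
  v : Bool
  w : Bool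
  p : Bool
  q : Bool
  r : Bool
  deriving DecidableEq

instance xorAssoc : Std.Associative (fun x y : Bool => x ^^ y) := ⟨Bool.xor_assoc⟩
instance xorComm : Std.Commutative (fun x y : Bool => x ^^ y) := ⟨Bool.xor_comm⟩
instance xorAssoc' : Std.Associative Bool.xor := ⟨Bool.xor_assoc⟩
instance xorComm' : Std.Commutative Bool.xor := ⟨Bool.xor_comm⟩

namespace S9

instance decAll (P : S9 → Prop) [DecidablePred P] : Decidable (∀ x, P x) :=
  decidable_of_iff (∀ u v w a b c p q r, P ⟨a, b, c, u, v, w, p, q, r⟩)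
    ⟨fun h x => h x.u x.v x.w x.a x.b x.c x.p x.q x.r, fun h _ _ _ _ _ _ _ _ _ => h _⟩

/-- Coordinates. -/
def equivProd : S9 ≃ (Bool × Bool × Bool) × (Bool × Bool × Bool) × (Bool × Bool × Bool) where
  toFun x := ((x.a, x.b, x.c), (x.u, x.v, x.w), (x.p, x.q, x.r))
  invFun y := ⟨y.1.1, y.1.2.1, y.1.2.2, y.2.1.1, y.2.1.2.1, y.2.1.2.2, y.2.2.1, y.2.2.2.1, y.2.2.2.2⟩
  left_inv _ := rfl
  right_inv _ := rfl

instance : Finite S9 := Finite.of_equiv _ equivProd.symm

def mul (x y : S9) : S9 :=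
  ⟨x.a ^^ y.a, x.b ^^ y.b ^^ (x.a && y.u), x.c ^^ y.c ^^ (x.a && y.v) ^^ (x.b && y.w),
    x.u ^^ y.u, x.v ^^ y.v ^^ (x.u && y.w), x.w ^^ y.w,
    x.p ^^ y.p ^^ (x.u && y.q) ^^ (x.v && y.r), x.q ^^ y.q ^^ (x.w && y.r), x.r ^^ y.r⟩

def inv (x : S9) : S9 :=
  ⟨x.a, x.b ^^ (x.a && x.u), x.c ^^ (x.a && x.v) ^^ (x.b && x.w) ^^ (x.a && x.u && x.w),
    x.u, x.v ^^ (x.u && x.w), x.w,
    x.p ^^ (x.u && x.q) ^^ (x.v && x.r) ^^ (x.u && x.w && x.r), x.q ^^ (x.w && x.r), x.r⟩

theorem mul_assoc' (x y z : S9) : mul (mul x y) z = mul x (mul y z) := by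
  ext <;> simp only [mul, Bool.and_xor_distrib_left, Bool.and_xor_distrib_right, Bool.and_assoc,
    Bool.xor_assoc] <;> ac_rfl

instance : Group S9 where
  mul := mul
  one := ⟨false, false, false, false, false, false, false, false, false⟩
  inv := inv
  mul_assoc := mul_assoc'
  one_mul := by decide +kernel
  mul_one := by decide +kernel
  inv_mul_cancel := by decide +kernel

theorem mul_def (x y : S9) : x * y = mul x y := rfl

/-- The cocycle giving the corner entry. -/
def coc (x y : S9) : Bool := (x.a && y.p) ^^ (x.b && y.q) ^^ (x.c && y.r)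

theorem coc_coc (x y z : S9) : (coc x y ^^ coc (x * y) z) = (coc y z ^^ coc x (y * z)) := by
  simp only [mul_def, mul, coc, Bool.and_xor_distrib_left, Bool.and_xor_distrib_right,
    Bool.and_assoc, Bool.xor_assoc]
  ac_rfl

theorem card_eq : Nat.card S9 = 512 := by
  rw [Nat.card_congr equivProd]; simp

end S9

/-- `UT₅(2)`. -/
@[ext] structure T10 where
  s : S9
  o : Bool
  deriving DecidableEq

namespace T10

instance decAll (P : T10 → Prop) [DecidablePred P] : Decidable (∀ x, P x) :=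
  decidable_of_iff (∀ s o, P ⟨s, o⟩) ⟨fun h x => h x.s x.o, fun h _ _ => h _⟩

/-- Coordinates. -/
def equivProd : T10 ≃ S9 × Bool where
  toFun x := (x.s, x.o)
  invFun y := ⟨y.1, y.2⟩
  left_inv _ := rfl
  right_inv _ := rfl

instance : Finite T10 := Finite.of_equiv _ equivProd.symm

def mul (x y : T10) : T10 := ⟨x.s * y.s, x.o ^^ y.o ^^ S9.coc x.s y.s⟩

def inv (x : T10) : T10 := ⟨x.s⁻¹, x.o ^^ S9.coc x.s⁻¹ x.s⟩

instance : Group T10 where
  mul := mul
  one := ⟨1, false⟩
  inv := inv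
  mul_assoc x y z := by
    refine T10.ext (mul_assoc x.s y.s z.s) ?_
    change ((x.o ^^ y.o ^^ S9.coc x.s y.s) ^^ z.o ^^ S9.coc (x.s * y.s) z.s) =
      (x.o ^^ (y.o ^^ z.o ^^ S9.coc y.s z.s) ^^ S9.coc x.s (y.s * z.s))
    have := S9.coc_coc x.s y.s z.s
    revert this
    generalize S9.coc x.s y.s = c1
    generalize S9.coc (x.s * y.s) z.s = c2
    generalize S9.coc y.s z.s = c3
    generalize S9.coc x.s (y.s * z.s) = c4
    generalize x.o = o1
    generalize y.o = o2
    generalize z.o = o3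
    revert c1 c2 c3 c4 o1 o2 o3
    decide
  one_mul := by decide +kernel
  mul_one := by decide +kernel
  inv_mul_cancel := by decide +kernel

theorem mul_def (x y : T10) : x * y = mul x y := rfl

theorem card_eq : Nat.card T10 = 1024 := by
  rw [Nat.card_congr equivProd, Nat.card_prod, S9.card_eq]; simp

/-- The projection. -/
def pr : T10 →* S9 where
  toFun x := x.s
  map_one' := rfl
  map_mul' _ _ := rfl

theorem pr_surj : Function.Surjective pr := fun s => ⟨⟨s, false⟩, rfl⟩

/-- Column vectors. -/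
abbrev V5 : Type := Bool × Bool × Bool × Bool × Bool

def act (x : T10) (v : V5) : V5 :=
  (v.1 ^^ (x.s.a && v.2.1) ^^ (x.s.b && v.2.2.1) ^^ (x.s.c && v.2.2.2.1) ^^ (x.o && v.2.2.2.2),
   v.2.1 ^^ (x.s.u && v.2.2.1) ^^ (x.s.v && v.2.2.2.1) ^^ (x.s.p && v.2.2.2.2),
   v.2.2.1 ^^ (x.s.w && v.2.2.2.1) ^^ (x.s.q && v.2.2.2.2),
   v.2.2.2.1 ^^ (x.s.r && v.2.2.2.2), v.2.2.2.2)

instance : MulAction T10 V5 where
  smul := act
  one_smul := by decide +kernel
  mul_smul x y v := by
    change act (mul x y) v = act x (act y v)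
    ext <;> simp only [act, mul, S9.mul_def, S9.mul, S9.coc, Bool.and_xor_distrib_left,
      Bool.and_xor_distrib_right, Bool.and_assoc, Bool.xor_assoc] <;> ac_rfl

end T10

end H55.SylT
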