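import Mathlib
import Cfsg.Agent.Base
import Cfsg.Agent.Lib.SylT.U5
import Cfsg.Agent.Lib.PGroup.Basic
import Cfsg.Agent.Lib.LocStruct.Conj

/-! # Facts on the model `S9` -/

set_option autoImplicit false
set_option maxRecDepth 100000
set_option maxHeartbeats 400000

namespace H55.SylT.S9

open Subgroup Cfsg H69
open scoped commutatorElement

/-- Elements of the complement. -/
def dd (u v w : Bool) : S9 := ⟨false, false, false, u, v, w, false, false, false⟩

/-- Elements of the abelian normal subgroup. -/
def aa (a b c p q r : Bool) : S9 := ⟨a, b, c, false, false, false, p, q, r⟩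

/-- The four generators. -/
def g1 : S9 := aa true false false false false false
/-- The four generators. -/
def g2 : S9 := dd true false false
/-- The four generators. -/
def g3 : S9 := dd false false true
/-- The four generators. -/
def g4 : S9 := aa false false false false false true
/-- `e₁₃`. -/
def gb : S9 := aa false true false false false false
/-- `e₃₅`. -/
def gq : S9 := aa false false false false true false

/-- The projection to the complement. -/
def dp : S9 →* S9 where
  toFun x := dd x.u x.v x.w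
  map_one' := rfl
  map_mul' x y := by
    ext <;> simp [dd, mul_def, mul]

theorem dp_eq (x : S9) : dp x = dd x.u x.v x.w := rfl

/-- The abelian subgroup of order 64. -/
def A0 : Subgroup S9 := dp.ker

instance : A0.Normal := dp.normal_ker

theorem mem_A0 {x : S9} : x ∈ A0 ↔ dp x = 1 := Iff.rfl

instance (x : S9) : Decidable (x ∈ A0) := decidable_of_iff (dp x = 1) Iff.rfl

theorem eq_aa {x : S9} (h : x ∈ A0) : x = aa x.a x.b x.c x.p x.q x.r := by
  have h1 : x.u = false := congrArg S9.u h
  have h2 : x.v = false := congrArg S9.v h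
  have h3 : x.w = false := congrArg S9.w h
  ext <;> simp [aa, h1, h2, h3]

theorem aa_mem (a b c p q r : Bool) : aa a b c p q r ∈ A0 := rfl

theorem A0_sq {x : S9} (h : x ∈ A0) : x * x = 1 := by
  rw [eq_aa h]
  ext <;> simp [aa, mul_def, mul] <;> rfl

theorem A0_comm {x y : S9} (hx : x ∈ A0) (hy : y ∈ A0) : x * y = y * x := by
  rw [eq_aa hx, eq_aa hy]
  ext <;> simp [aa, mul_def, mul, Bool.xor_comm]

theorem dp_dp (x : S9) : dp (dp x) = dp x := rfl

theorem exists_dp (x : S9) : ∃ a ∈ A0, x = a * dp x :=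
  ⟨x * (dp x)⁻¹, by rw [mem_A0, map_mul, map_inv, dp_dp, mul_inv_cancel], by group⟩

theorem conj_dp {a : S9} (ha : a ∈ A0) (x : S9) : x * a * x⁻¹ = dp x * a * (dp x)⁻¹ := by
  obtain ⟨b, hb, e⟩ := exists_dp x
  have h := A0_comm hb ((inferInstance : A0.Normal).conj_mem a ha (dp x))
  conv_lhs => rw [e]
  calc b * dp x * a * (b * dp x)⁻¹ = b * (dp x * a * (dp x)⁻¹) * b⁻¹ := by group
    _ = _ := by rw [h]; group

theorem comm_dp {a : S9} (ha : a ∈ A0) (x : S9) : ⁅a, x⁆ = ⁅a, dp x⁆ := by
  have := conj_dp (inv_mem ha) x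
  calc ⁅a, x⁆ = a * (x * a⁻¹ * x⁻¹) := by simp only [commutatorElement_def]; group
    _ = _ := by rw [this]; simp only [commutatorElement_def]; group

theorem commute_dp {a : S9} (ha : a ∈ A0) (x : S9) : a * x = x * a ↔ a * dp x = dp x * a := by
  rw [← commutatorElement_eq_one_iff_mul_comm, comm_dp ha, commutatorElement_eq_one_iff_mul_comm]

theorem comm_mem {a : S9} (ha : a ∈ A0) (x : S9) : ⁅a, x⁆ ∈ A0 := by
  rw [mem_A0, map_commutatorElement, mem_A0.1 ha, commutatorElement_one_left]

/-- Commutator, computable form. -/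
def cm (x y : S9) : S9 := x * y * x⁻¹ * y⁻¹

theorem cm_eq (x y : S9) : ⁅x, y⁆ = cm x y := rfl

noncomputable instance : Fintype S9 := Fintype.ofFinite _

/-- All booleans. -/
def bs : List Bool := [false, true]

/-- All elements of `A0`. -/
def allA : List S9 := bs.flatMap fun a => bs.flatMap fun b => bs.flatMap fun c =>
  bs.flatMap fun p => bs.flatMap fun q => bs.map fun r => aa a b c p q r

/-- All elements. -/
def allS : List S9 := bs.flatMap fun u => bs.flatMap fun v => bs.flatMap fun w =>
  allA.map fun a => a * dd u v w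

theorem mem_bs (a : Bool) : a ∈ bs := by cases a <;> simp [bs]

theorem mem_allA {x : S9} (h : x ∈ A0) : x ∈ allA := by
  rw [eq_aa h]
  simp only [allA, List.mem_flatMap, List.mem_map]
  exact ⟨_, mem_bs _, _, mem_bs _, _, mem_bs _, _, mem_bs _, _, mem_bs _, _, mem_bs _, rfl⟩

theorem allA_mem : ∀ x ∈ allA, x ∈ A0 := by decide +kernel

theorem allA_nodup : allA.Nodup := by decide +kernel

theorem mem_allS (x : S9) : x ∈ allS := by
  obtain ⟨a, ha, e⟩ := exists_dp x
  simp only [allS, List.mem_flatMap, List.mem_map]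
  exact ⟨_, mem_bs _, _, mem_bs _, _, mem_bs _, a, mem_allA ha, e.symm⟩

theorem card_eq_of {H : Subgroup S9} (P : S9 → Bool) (h : ∀ x, x ∈ H ↔ x ∈ A0 ∧ P x = true) :
    Nat.card H = (allA.filter P).length := by
  rw [← List.toFinset_card_of_nodup (allA_nodup.filter _)]
  refine Nat.subtype_card _ fun x => ?_
  rw [List.mem_toFinset, List.mem_filter]
  exact ⟨fun k => (h x).2 ⟨allA_mem x k.1, k.2⟩, fun k => ⟨mem_allA ((h x).1 k).1, ((h x).1 k).2⟩⟩

theorem card_le_of {H : Set S9} (P : S9 → Bool) (h : ∀ x ∈ H, P x = true) :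
    H.ncard ≤ (allS.filter P).length := by
  refine le_trans (Set.ncard_le_ncard (t := ((allS.filter P).toFinset : Set S9))
    (fun x hx => ?_) (Set.toFinite _)) ?_
  · simp only [Finset.mem_coe, List.mem_toFinset, List.mem_filter]
    exact ⟨mem_allS x, h x hx⟩
  · rw [Set.ncard_coe_finset]; exact List.toFinset_card_le _

theorem card_A0 : Nat.card A0 = 64 := by
  rw [card_eq_of (fun _ => true) (fun x => by simp)]; decide +kernel

theorem card_cent (t : S9) : Nat.card (A0 ⊓ centralizer {t} : Subgroup S9) =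
    (allA.filter fun a => a * dp t == dp t * a).length :=
  card_eq_of _ fun x => by
    rw [mem_inf, mem_centralizer_singleton_iff, beq_iff_eq]
    exact and_congr_right fun hx => commute_dp hx t

theorem card_cent2 (t s : S9) :
    Nat.card (A0 ⊓ centralizer {t} ⊓ centralizer {s} : Subgroup S9) =
    (allA.filter fun a => a * dp t == dp t * a && a * dp s == dp s * a).length :=
  card_eq_of _ fun x => by
    rw [mem_inf, mem_inf, mem_centralizer_singleton_iff, mem_centralizer_singleton_iff,
      Bool.and_eq_true, beq_iff_eq, beq_iff_eq, and_assoc]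
    exact and_congr_right fun hx => and_congr (commute_dp hx t) (commute_dp hx s)

theorem c16' : ∀ u v w, dd u v w ≠ 1 → dd u v w * dd u v w = 1 →
    (allA.filter fun a => a * dd u v w == dd u v w * a).length = 16 := by decide +kernel

theorem c16'' : ∀ u v w, dd u v w ≠ 1 →
    (allA.filter fun a => a * dd u v w == dd u v w * a).length ≤ 16 := by decide +kernel

theorem c8' : ∀ u v w u' v' w', dd u v w ≠ 1 → dd u' v' w' ≠ 1 → dd u' v' w' ≠ dd u v w →
    (allA.filter fun a => a * dd u v w == dd u v w * a &&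
      a * dd u' v' w' == dd u' v' w' * a).length ≤ 8 := by decide +kernel

theorem c16 {t : S9} (h : t ∉ A0) (h2 : t * t ∈ A0) :
    Nat.card (A0 ⊓ centralizer {t} : Subgroup S9) = 16 := by
  rw [card_cent]
  exact c16' _ _ _ h (by rw [mem_A0, map_mul] at h2; exact h2)

theorem quad' : ∀ u v w u' v' w', dd u v w * dd u v w = 1 → dd u' v' w' * dd u' v' w' = 1 →
    cm (dd u v w) (dd u' v' w') = 1 → ∀ a ∈ allA,
    cm a (dd u v w) * dd u' v' w' = dd u' v' w' * cm a (dd u v w) := by decide +kernel

theorem quad {x y a : S9} (hx : x * x ∈ A0) (hy : y * y ∈ A0) (hxy : ⁅x, y⁆ ∈ A0) (ha : a ∈ A0) :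
    ⁅a, x⁆ * y = y * ⁅a, x⁆ := by
  rw [commute_dp (comm_mem ha x), comm_dp ha]
  rw [mem_A0, map_mul] at hx hy
  rw [mem_A0, map_commutatorElement] at hxy
  exact quad' _ _ _ _ _ _ hx hy hxy a (mem_allA ha)

theorem mid'' : ∀ u v w u' v' w', dd u v w ≠ 1 → dd u v w * dd u v w = 1 →
    dd u' v' w' * dd u' v' w' = 1 → cm (dd u v w) (dd u' v' w') = 1 → (allA.all fun a =>
    a * dd u v w != dd u v w * a || [1, g1, gb, gq, g4, g1 * gq, g1 * g4, gb * gq, gb * g4].any
      fun a' => cm a (dd u' v' w') == cm a' (dd u v w)) = true := by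
  decide +kernel

theorem mid' (u v w u' v' w' : Bool) (h1 : dd u v w ≠ 1) (h2 : dd u v w * dd u v w = 1)
    (h3 : dd u' v' w' * dd u' v' w' = 1) (h4 : cm (dd u v w) (dd u' v' w') = 1) (a : S9)
    (ha : a ∈ allA) (h : a * dd u v w = dd u v w * a) :
    ∃ a' ∈ allA, cm a (dd u' v' w') = cm a' (dd u v w) := by
  have := List.all_eq_true.1 (mid'' u v w u' v' w' h1 h2 h3 h4) a ha
  simp only [Bool.or_eq_true, bne_iff_ne, ne_eq, h, not_true_eq_false, false_or, List.any_eq_true,
    beq_iff_eq] at this
  obtain ⟨a', ha', e⟩ := this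
  refine ⟨a', ?_, e⟩
  revert a'
  suffices ∀ a' ∈ [1, g1, gb, gq, g4, g1 * gq, g1 * g4, gb * gq, gb * g4], a' ∈ allA from
    fun a' h _ => this a' h
  decide +kernel

theorem mid {x y a : S9} (h : x ∉ A0) (hx : x * x ∈ A0) (hy : y * y ∈ A0) (hxy : ⁅x, y⁆ ∈ A0)
    (ha : a ∈ A0) (hc : a * x = x * a) : ∃ a' ∈ A0, ⁅a, y⁆ = ⁅a', x⁆ := by
  rw [mem_A0, map_mul] at hx hy
  rw [mem_A0, map_commutatorElement] at hxy
  obtain ⟨a', ha', e⟩ := mid' _ _ _ _ _ _ h hx hy hxy a (mem_allA ha) ((commute_dp ha x).1 hc)
  exact ⟨a', allA_mem _ ha', by rw [comm_dp ha, comm_dp (allA_mem _ ha')]; exact e⟩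

theorem split {s : S9} (h : s * s ∈ A0) : ∃ a ∈ A0, a * s * (a * s) = 1 := by
  obtain ⟨a, ha, e⟩ := exists_dp s
  refine ⟨a⁻¹, inv_mem ha, ?_⟩
  have : a⁻¹ * s = dp s := by rw [inv_mul_eq_iff_eq_mul]; exact e
  rw [this, ← map_mul]; exact h

theorem uniq (B : Subgroup S9) (hB : ∀ x ∈ B, ∀ y ∈ B, x * y = y * x) (hc : Nat.card B = 64) :
    B = A0 := by
  by_cases hle : B ≤ A0
  · exact eq_of_le_of_card_ge hle (by rw [hc, card_A0])
  exfalso
  obtain ⟨b, hb, hbA⟩ := SetLike.not_le_iff_exists.1 hle
  have e1 : Nat.card (A0 ⊓ B : Subgroup S9) * Nat.card (B.map dp) = 64 := by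
    rw [← hc, ← relIndex_ker, ← inf_relIndex_right]
    exact H1.card_mul_relIndex_of_le inf_le_right
  have l1 : Nat.card (A0 ⊓ B : Subgroup S9) ≤ 16 := by
    refine le_trans (card_le_of_le (K := A0 ⊓ centralizer {b}) (inf_le_inf_left _ fun x hx =>
      mem_centralizer_singleton_iff.2 (hB x hx b hb))) ?_
    rw [card_cent]; exact c16'' _ _ _ hbA
  obtain ⟨b', hb', k1, k2⟩ : ∃ b' ∈ B, dp b' ≠ 1 ∧ dp b' ≠ dp b := by
    by_contra hcon
    push Not at hcon
    have : Nat.card (B.map dp) ≤ 2 := by
      refine le_trans (Set.ncard_le_ncard (s := (B.map dp : Set S9)) (t := {1, dp b}) ?_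
        (Set.toFinite _)) ((Set.ncard_insert_le _ _).trans (by simp))
      rintro _ ⟨x, hx, rfl⟩
      by_cases h1 : dp x = 1
      · exact Or.inl h1
      · exact Or.inr (hcon x hx h1)
    nlinarith
  have l2 : Nat.card (A0 ⊓ B : Subgroup S9) ≤ 8 := by
    refine le_trans (card_le_of_le (K := A0 ⊓ centralizer {b} ⊓ centralizer {b'}) fun x hx =>
      ⟨⟨hx.1, mem_centralizer_singleton_iff.2 (hB x hx.2 b hb)⟩,
        mem_centralizer_singleton_iff.2 (hB x hx.2 b' hb')⟩) ?_
    rw [card_cent2]; exact c8' _ _ _ _ _ _ hbA k1 k2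
  have e2 : Nat.card A0 * Nat.card dp.range = 512 := by
    rw [← card_eq, ← index_ker]; exact card_mul_index _
  rw [card_A0] at e2
  have e3 : B.map dp = dp.range := eq_of_le_of_card_ge (map_le_range _ _) (by nlinarith)
  obtain ⟨x, hx, ex⟩ : dd true false false ∈ B.map dp := e3 ▸ ⟨dd true false false, rfl⟩
  obtain ⟨y, hy, ey⟩ : dd false false true ∈ B.map dp := e3 ▸ ⟨dd false false true, rfl⟩
  have := congrArg dp (hB x hx y hy)
  rw [map_mul, map_mul, ex, ey] at this
  revert this
  decide

/-- The two maximal subgroups with four-group image. -/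
def T1 : Subgroup S9 where
  carrier := {x | x.w = false}
  one_mem' := rfl
  mul_mem' := fun {x y} hx hy => by
    change (x.w ^^ y.w) = false
    rw [show x.w = false from hx, show y.w = false from hy]; rfl
  inv_mem' := fun h => h

/-- The two maximal subgroups with four-group image. -/
def T2 : Subgroup S9 where
  carrier := {x | x.u = false}
  one_mem' := rfl
  mul_mem' := fun {x y} hx hy => by
    change (x.u ^^ y.u) = false
    rw [show x.u = false from hx, show y.u = false from hy]; rfl
  inv_mem' := fun h => h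

theorem T1_sq : ∀ x : S9, x.w = false → x * x ∈ A0 := by decide +kernel
theorem T2_sq : ∀ x : S9, x.u = false → x * x ∈ A0 := by decide +kernel
theorem A0_T : ∀ x : S9, x ∈ A0 → x.w = false ∧ x.u = false := by decide +kernel
theorem gen_T : ∀ x : S9, (x * (dd false false x.w)⁻¹).w = false := by decide +kernel

/-- `e₁₄`. -/
def p0 : S9 := cm (aa false true false false false false) (dd false false true)
/-- `e₂₅`. -/
def q0 : S9 := cm (aa false false false false true false) (dd true false false)

theorem p0_cent : ∀ x : S9, x * p0 = p0 * x := by decide +kernel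
theorem q0_cent : ∀ x : S9, x * q0 = q0 * x := by decide +kernel
theorem p0_uniq : ∀ a ∈ allA, dd true false false * cm a (dd false false true) =
    cm a (dd false false true) * dd true false false →
    cm a (dd false false true) = 1 ∨ cm a (dd false false true) = p0 := by decide +kernel
theorem q0_uniq : ∀ a ∈ allA, dd false false true * cm a (dd true false false) =
    cm a (dd true false false) * dd false false true →
    cm a (dd true false false) = 1 ∨ cm a (dd true false false) = q0 := by decide +kernel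
theorem z_four : ∀ c ∈ allA, dd true false false * c = c * dd true false false →
    dd false false true * c = c * dd false false true →
    c = 1 ∨ c = p0 ∨ c = q0 ∨ c = p0 * q0 := by decide +kernel

theorem isPGroup : IsPGroup 2 S9 := IsPGroup.of_card (n := 9) (by rw [card_eq]; norm_num)

/-! ### centres of maximal subgroups -/

/-- Boolean power. -/
def pw (g : S9) (b : Bool) : S9 := if b then g else 1


/-- Squares generating the Frattini subgroup. -/
def sqw (y : S9) : S9 := pw ((g1 * g2) * (g1 * g2)) y.b *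
  pw ((aa false true false false false false * g3) * (aa false true false false false false * g3))
    y.c * pw ((g2 * g3) * (g2 * g3)) y.v *
  pw ((g2 * aa false false false false true false) * (g2 * aa false false false false true false))
    y.p * pw ((g3 * g4) * (g3 * g4)) y.q

/-- The leading word. -/
def ld (x : S9) : S9 := pw g1 x.a * pw g2 x.u * pw g3 x.w * pw g4 x.r

theorem word : ∀ x : S9, x = ld x * sqw ((ld x)⁻¹ * x) := by decide +kernel

/-- Linear forms. -/
def chi (c1 c2 c3 c4 : Bool) (x : S9) : Bool :=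
  (x.a && c1) ^^ (x.u && c2) ^^ (x.w && c3) ^^ (x.r && c4)

/-- Test elements. -/
def tests : List S9 := [g1, g2, g3, g4, g1 * g2, g1 * g3, g1 * g4, g2 * g3, g2 * g4, g3 * g4,
  aa false true false false false false, dd false true false, aa false false false false true false]

theorem cnt : ∀ c1 c2 c3 c4 : Bool, (c1 || c2 || c3 || c4) = true →
    (allS.filter fun x => !chi c1 c2 c3 c4 x &&
      tests.all fun y => chi c1 c2 c3 c4 y || x * y == y * x).length ≤ 8 := by decide +kernel

theorem center_le (M : Subgroup S9) (hM : IsCoatom M) : Nat.card (center M) ≤ 8 := by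
  classical
  have hi : M.index = 2 := H5.index_of_isCoatom isPGroup hM
  let g : S9 → Bool := fun x => decide (x ∉ M)
  have gm : ∀ x y, g (x * y) = (g x ^^ g y) := fun x y => by
    have := mul_mem_iff_of_index_two hi (a := x) (b := y)
    by_cases hx : x ∈ M <;> by_cases hy : y ∈ M <;> simp [g, this, hx, hy]
  have gp : ∀ x b, g (pw x b) = (b && g x) := fun x b => by
    cases b
    · simp [pw, g]
    · simp [pw]
  have hg : ∀ x, g x = chi (g g1) (g g2) (g g3) (g g4) x := fun x => by
    conv_lhs => rw [word x]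
    simp only [sqw, ld, gm, gp, Bool.xor_self, Bool.and_false, Bool.xor_false, chi]
  have hne : (g g1 || g g2 || g g3 || g g4) = true := by
    by_contra hn
    simp only [Bool.or_eq_true, not_or, Bool.not_eq_true] at hn
    refine hM.1 (eq_top_iff.2 fun x _ => ?_)
    have := hg x
    rw [hn.1.1.1, hn.1.1.2, hn.1.2, hn.2] at this
    simpa [chi, g] using this
  refine le_trans ?_ (cnt _ _ _ _ hne)
  rw [← card_map_subtype]
  refine card_le_of _ ?_
  rintro _ ⟨x, hx, rfl⟩
  simp only [Bool.and_eq_true, Bool.not_eq_true', List.all_eq_true, Bool.or_eq_true, beq_iff_eq,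
    ← hg]
  refine ⟨by simp [g], fun y _ => ?_⟩
  by_cases hy : y ∈ M
  · exact Or.inr (congrArg Subtype.val (mem_center_iff.1 hx ⟨y, hy⟩)).symm
  · exact Or.inl (by simp [g, hy])

end H55.SylT.S9
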