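import Mathlib
import Cfsg.Agent.Base
import Cfsg.Agent.Lib.SylT.U5M24

/-! # The centre of `UT₅(2)` -/

set_option autoImplicit false
set_option maxHeartbeats 400000
set_option maxRecDepth 100000

namespace H55.SylT

open Subgroup Cfsg

namespace T10

/-- The central involution. -/
def z0 : T10 := ⟨1, true⟩

theorem z0_cent : ∀ x : T10, x * z0 = z0 * x := by decide +kernel

theorem z0_sq : z0 * z0 = 1 := by decide

theorem z0_ne : z0 ≠ 1 := by decide

theorem cent_cases : ∀ x : T10, (∀ g ∈ gens, g * x = x * g) → x = 1 ∨ x = z0 := by decide +kernel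

theorem ker_cases : ∀ x : T10, pr x = 1 → x = 1 ∨ x = z0 := by decide +kernel

theorem center_eq : center T10 = pr.ker := by
  ext x
  constructor
  · intro h
    rcases cent_cases x (fun g _ => mem_center_iff.1 h g) with rfl | rfl
    · exact one_mem _
    · rfl
  · intro h
    rcases ker_cases x h with rfl | rfl
    · exact one_mem _
    · exact mem_center_iff.2 z0_cent

theorem nonempty_quot (P : Sylow 2 M24) :
    Nonempty (S9 ≃* ((P : Subgroup M24) ⧸ center (P : Subgroup M24))) := by
  obtain ⟨e⟩ := nonempty_equiv P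
  refine ⟨((QuotientGroup.quotientKerEquivOfSurjective pr pr_surj).symm.trans
    (QuotientGroup.quotientMulEquivOfEq center_eq.symm)).trans
    (QuotientGroup.congr _ _ e ?_)⟩
  ext y
  constructor
  · rintro ⟨x, hx, rfl⟩
    refine mem_center_iff.2 fun g => ?_
    obtain ⟨g, rfl⟩ := e.surjective g
    change e g * e x = e x * e g
    rw [← map_mul, ← map_mul, mem_center_iff.1 hx g]
  · intro h
    obtain ⟨x, rfl⟩ := e.surjective y
    refine ⟨x, mem_center_iff.2 fun g => e.injective ?_, rfl⟩
    rw [map_mul, map_mul, mem_center_iff.1 h]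

end T10

end H55.SylT
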