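import Mathlib
import Cfsg.Agent.Base
import Cfsg.Agent.Lib.SylT.GoldCor
import Cfsg.Agent.Lib.Functor.SectFus

/-! # A weakly closed elementary abelian subgroup with quadratic action is strongly closed -/

set_option autoImplicit false
set_option maxHeartbeats 400000

namespace H55.SylT

open Subgroup Cfsg H69 H45 Gold
open scoped commutatorElement

universe u
variable {G : Type u} [Group G] [Finite G]

/-- The stabilizer of the chain `X ≥ H ≥ D ≥ 1`. -/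
def chainSt (X H D : Subgroup G) : Subgroup G :=
  𝐂(D) ⊓ H2.relCentralizer H D ⊓ H2.relCentralizer X H

omit [Finite G] in
theorem comm_mem_of_norm {X : Subgroup G} {g x : G} (hg : g ∈ 𝐍(X)) (hx : x ∈ X) : ⁅g, x⁆ ∈ X :=
  mul_mem (conj_mem_of_mem_normalizer hg hx) (inv_mem hx)

omit [Finite G] in
theorem comm_mem_of_norm' {X : Subgroup G} {g x : G} (hg : g ∈ 𝐍(X)) (hx : x ∈ X) :
    ⁅x, g⁆ ∈ X := by
  rw [← commutatorElement_inv]; exact inv_mem (comm_mem_of_norm hg hx)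

theorem mem_norm_of_comm {X : Subgroup G} {g : G} (h : ∀ x ∈ X, ⁅g, x⁆ ∈ X) : g ∈ 𝐍(X) := by
  refine mem_normalizer_of_cj_le fun y hy => ?_
  obtain ⟨x, hx, rfl⟩ := mem_cj'.1 hy
  simpa [commutatorElement_def] using mul_mem (h x hx) hx

omit [Finite G] in
theorem comm_eq_one_of_cent {X : Subgroup G} {g x : G} (hg : g ∈ 𝐂(X)) (hx : x ∈ X) :
    ⁅g, x⁆ = 1 := commutatorElement_eq_one_iff_mul_comm.2 (hg x hx).symm

theorem mem_chainSt {X H D : Subgroup G} (hDH : D ≤ H) {g : G} (h1 : g ∈ 𝐂(D))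
    (h2 : ∀ x ∈ H, ⁅g, x⁆ ∈ D) (h3 : ∀ x ∈ X, ⁅g, x⁆ ∈ H) : g ∈ chainSt X H D :=
  ⟨⟨h1, centralizer_le_normalizer _ h1, h2⟩, mem_norm_of_comm fun x hx => hDH (h2 x hx), h3⟩

theorem mem_chainSt_of_low {X H D : Subgroup G} (hDH : D ≤ H) (hHX : H ≤ X) {g : G}
    (h1 : g ∈ 𝐂(D)) (h : ∀ x ∈ X, ⁅g, x⁆ ∈ D) : g ∈ chainSt X H D :=
  mem_chainSt hDH h1 (fun x hx => h x (hHX hx)) fun x hx => hDH (h x hx)

theorem mem_chainSt_of_high {X H D : Subgroup G} (hDH : D ≤ H) {g : G}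
    (h1 : g ∈ 𝐂(H)) (h : ∀ x ∈ X, ⁅g, x⁆ ∈ H) : g ∈ chainSt X H D :=
  mem_chainSt hDH (centralizer_anti hDH h1)
    (fun x hx => by rw [comm_eq_one_of_cent h1 hx]; exact one_mem _) h

theorem cent_of_chainSt {X H D : Subgroup G} (hH : IsPGroup 2 H) (hDH : D ≤ H) {g : G}
    (hg : g ∈ chainSt X H D) (ho : Odd (orderOf g)) : g ∈ 𝐂(X) := by
  have hc : (orderOf g).Coprime 2 := (Nat.coprime_two_right).2 ho
  exact H59.mem_centralizer_of_coprime hH hc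
    (H59.mem_centralizer_of_coprime (hH.to_le hDH) hc hg.1.1 hg.1.2.2) hg.2.2

omit [Finite G] in
theorem norm_chainSt {X H D : Subgroup G} {g : G} (h1 : g ∈ 𝐍(X)) (h2 : g ∈ 𝐍(H))
    (h3 : g ∈ 𝐍(D)) : g ∈ 𝐍(chainSt X H D) := by
  rw [← cj_eq_self_iff] at h1 h2 h3 ⊢
  rw [chainSt, cj_inf, cj_inf, cj_centralizer, relCent_cj, relCent_cj, h1, h2, h3]

theorem chain_conj {X H D P Q : Subgroup G} (hH : IsPGroup 2 H) (hDH : D ≤ H)
    (hP : IsPGroup 2 P) (hQ : IsPGroup 2 Q) (h1 : P ≤ chainSt X H D) (h2 : Q ≤ chainSt X H D) :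
    ∃ c ∈ 𝐂(X), ∃ R : Subgroup G, IsPGroup 2 R ∧ P ≤ R ∧ Q ^ᶜ c ≤ R := by
  obtain ⟨R, hR, hPR⟩ := exists_isSylowIn_le hP h1
  obtain ⟨y, hy, hQR⟩ := hR.exists_cj_le hQ h2
  have hres : 𝐑(2, chainSt X H D) ≤ 𝐂(X) := res_le_iff.2 fun g hg hc =>
    cent_of_chainSt hH hDH hg ((Nat.coprime_two_right).1 hc)
  rw [← hR.sup_res] at hy
  obtain ⟨r, hr, c, hc, rfl⟩ := (mem_sup_of_le_normalizer_right
    (hR.le.trans (le_normalizer_res _))).1 hy
  refine ⟨c, hres hc, R, hR.isP, hPR, ?_⟩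
  rw [← cj_cj, cj_le_iff, cj_eq_of_mem (inv_mem hr)] at hQR
  exact hQR

omit [Finite G] in
theorem card_sup_zpowers {H : Subgroup G} {x : G} (hx : x * x = 1) (hn : x ∈ 𝐍(H)) (h : x ∉ H) :
    Nat.card (H ⊔ zpowers x : Subgroup G) = Nat.card H * 2 := by
  have h1 : H.relIndex (H ⊔ zpowers x) = 2 := by
    rw [relIndex, index_eq_two_iff]
    refine ⟨⟨x, mem_sup_right (mem_zpowers x)⟩, fun b => ?_⟩
    simp only [mem_subgroupOf, coe_mul]
    rcases (mem_sup_zpowers hx hn).1 b.2 with hb | hb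
    · exact Or.inr ⟨hb, fun h' => h (by simpa using mul_mem (inv_mem hb) h')⟩
    · refine Or.inl ⟨hb, fun h' => h (by simpa using mul_mem (inv_mem h') hb)⟩
  rw [← h1]; exact (H1.card_mul_relIndex_of_le le_sup_left).symm

/-- The local data. -/
structure Loc (S A : Subgroup G) : Prop where
  two : IsPGroup 2 S
  le : A ≤ S
  ea : IsElementaryAbelian 2 A
  norm : S ≤ 𝐍(A)
  card : Nat.card A = 64
  uniq : ∀ B : Subgroup G, B ≤ S → B ≤ 𝐂(B) → Nat.card B = 64 → B = A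
  c16 : ∀ t ∈ S, t ∉ A → t * t ∈ A → Nat.card (A ⊓ 𝐂[t] : Subgroup G) = 16
  quad : ∀ x ∈ S, ∀ y ∈ S, x * x ∈ A → y * y ∈ A → ⁅x, y⁆ ∈ A → ∀ a ∈ A,
    ⁅a, x⁆ * y = y * ⁅a, x⁆

theorem Loc.normX {S B X : Subgroup G} (h : Loc S B) (hX : X ≤ S)
    (he : IsElementaryAbelian 2 X) (hc : Nat.card X = 32) : B ≤ 𝐍(X) := fun b hb => by
  refine mem_norm_of_comm fun x hx => ?_
  by_contra hn
  have hcB : ⁅b, x⁆ ∈ B := comm_mem_of_norm' (h.norm (hX hx)) hb
  have hcX : ⁅b, x⁆ ∈ 𝐂(X) := fun y hy => (h.quad x (hX hx) y (hX hy)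
    (by rw [ea_sq he hx]; exact one_mem _) (by rw [ea_sq he hy]; exact one_mem _)
    (by rw [comm_eq_one_of_cent (ea_cent he hx) hy]; exact one_mem _) b hb).symm
  have h2 := ea_sq h.ea hcB
  have he' : IsElementaryAbelian 2 (X ⊔ zpowers ⁅b, x⁆ : Subgroup G) :=
    ea_sup he (ea_zpowers h2) (zpowers_le.2 hcX)
  have := h.uniq _ (sup_le hX (zpowers_le.2 (h.le hcB))) (ea_cent he')
    (by rw [card_sup_zpowers h2 (centralizer_le_normalizer _ hcX) hn, hc])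
  have hxB : x ∈ B := this ▸ mem_sup_left hx
  rw [comm_eq_one_of_cent (ea_cent h.ea hb) hxB] at hn
  exact hn (one_mem _)

theorem loc_of {A R : Subgroup G} (h0 : ∀ R : Subgroup G, IsPGroup 2 R → ∃ S A, R ≤ S ∧ Loc S A)
    (hR : IsPGroup 2 R) (hA : A ≤ R) (h1 : A ≤ 𝐂(A)) (h2 : Nat.card A = 64) :
    ∃ S, R ≤ S ∧ Loc S A := by
  obtain ⟨S, B, hS, hL⟩ := h0 R hR
  exact ⟨S, hS, (hL.uniq A (hA.trans hS) h1 h2) ▸ hL⟩

theorem eq_of_loc {A B R : Subgroup G}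
    (h0 : ∀ R : Subgroup G, IsPGroup 2 R → ∃ S A, R ≤ S ∧ Loc S A)
    (hR : IsPGroup 2 R) (hA : A ≤ R) (h1 : IsElementaryAbelian 2 A) (h2 : Nat.card A = 64)
    (hB : B ≤ R) (h3 : IsElementaryAbelian 2 B) (h4 : Nat.card B = 64) : A = B := by
  obtain ⟨S, hS, hL⟩ := loc_of h0 hR hB (ea_cent h3) h4
  exact hL.uniq A (hA.trans hS) (ea_cent h1) h2

theorem mul_mem_of_half {H X : Subgroup G} (hH : H ≤ X) (hc : Nat.card H * 2 = Nat.card X)
    {x y : G} (hx : x ∈ X) (hy : y ∈ X) (hx' : x ∉ H) (hy' : y ∉ H) : x * y ∈ H := by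
  have h1 : (H.subgroupOf X).index = 2 := by
    have := H1.card_mul_relIndex_of_le hH
    rw [← hc] at this
    exact Nat.eq_of_mul_eq_mul_left Nat.card_pos this
  have := (mul_mem_iff_of_index_two h1 (a := ⟨x, hx⟩) (b := ⟨y, hy⟩)).2
    (by simp [mem_subgroupOf, hx', hy'])
  simpa [mem_subgroupOf] using this

omit [Finite G] in
theorem comm_mul_right_of_comm {a x y : G} (h : a * y = y * a) : ⁅a, x * y⁆ = ⁅a, x⁆ := by
  have : y * a⁻¹ * y⁻¹ = a⁻¹ := by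
    have : a = y * a * y⁻¹ := by rw [← h]; group
    conv_rhs => rw [this]
    group
  calc ⁅a, x * y⁆ = a * x * (a⁻¹ * (a * y * a⁻¹ * y⁻¹)) * x⁻¹ := by
        simp only [commutatorElement_def]; group
    _ = ⁅a, x⁆ := by rw [h]; simp only [commutatorElement_def]; group

theorem sc_of_loc {A : Subgroup G}
    (h0 : ∀ R : Subgroup G, IsPGroup 2 R → ∃ S A, R ≤ S ∧ Loc S A)
    (hA : IsElementaryAbelian 2 A) (hc : Nat.card A = 64) : SC A ⊤ := by
  refine ⟨le_top, fun Q hQ hAQ h _ a0 ha0 htQ => ?_⟩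
  by_contra htA
  set t := h * a0 * h⁻¹ with ht
  have htt : t * t = 1 := by rw [ht, conj_mul, ea_sq hA ha0]; group
  obtain ⟨S, hQS, hS⟩ := loc_of h0 hQ hAQ (ea_cent hA) hc
  have htS := hQS htQ
  have c1 := hS.c16 t htS htA (by rw [htt]; exact one_mem _)
  have htc : t ∈ 𝐂((A ⊓ 𝐂[t] : Subgroup G)) := fun y hy =>
    (mem_centralizer_singleton_iff.1 hy.2)
  set X : Subgroup G := (A ⊓ 𝐂[t]) ⊔ zpowers t with hXdef
  have hXe : IsElementaryAbelian 2 X :=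
    ea_sup (H43.ea_of_le hA inf_le_left) (ea_zpowers htt) (zpowers_le.2 htc)
  have hXc : Nat.card X = 32 := by
    rw [hXdef, card_sup_zpowers htt (centralizer_le_normalizer _ htc) fun h => htA h.1, c1]
  have htX : t ∈ X := mem_sup_right (mem_zpowers t)
  have hXS : X ≤ S := sup_le (inf_le_left.trans hS.le) (zpowers_le.2 htS)
  have hXt : X ≤ 𝐂[t] := H43.ea_le_centralizer_singleton hXe htX
  have hAX : A ≤ 𝐍(X) := hS.normX hXS hXe hXc
  -- the second subgroup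
  obtain ⟨R, hR, hXR⟩ := exists_isSylowIn_le (ea2 hXe) hXt
  have ht0 : t ∈ A ^ᶜ h := cj_mem h ha0
  obtain ⟨k, hk, hBR⟩ := hR.exists_cj_le (ea2 (H69.ea_cj hA h))
    (H43.ea_le_centralizer_singleton (H69.ea_cj hA h) ht0)
  set B : Subgroup G := (A ^ᶜ h) ^ᶜ k with hBdef
  have hB : IsElementaryAbelian 2 B := H69.ea_cj (H69.ea_cj hA h) k
  have hBc : Nat.card B = 64 := by rw [hBdef, card_cj, card_cj, hc]
  have htB : t ∈ B := by
    have := cj_mem k ht0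
    rwa [mem_centralizer_singleton_iff.1 hk, mul_inv_cancel_right] at this
  obtain ⟨S', hRS', hS'⟩ := loc_of h0 hR.isP hBR (ea_cent hB) hBc
  have hXS' : X ≤ S' := hXR.trans hRS'
  have hBX : B ≤ 𝐍(X) := hS'.normX hXS' hXe hXc
  -- the two hyperplanes
  have e1 : A ⊓ X = A ⊓ 𝐂[t] := le_antisymm (inf_le_inf_left _ hXt) (le_inf inf_le_left le_sup_left)
  have c1' : Nat.card (A ⊓ X : Subgroup G) = 16 := by rw [e1, c1]
  have c2 : Nat.card (B ⊓ X : Subgroup G) = 16 := by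
    obtain ⟨R', hR', hBR'⟩ := exists_isSylowIn_le (ea2 hB) hBX
    obtain ⟨n, hn, hAR'⟩ := hR'.exists_cj_le (ea2 hA) hAX
    have := eq_of_loc h0 hR'.isP hAR' (H69.ea_cj hA n) (by rw [card_cj, hc]) hBR' hB hBc
    rw [← this, ← cj_eq_of_mem_normalizer hn, ← cj_inf, card_cj, c1']
  obtain ⟨s, hs, hsB⟩ : ∃ s ∈ A ⊓ X, s ∉ B := by
    by_contra hcon
    push Not at hcon
    have : A ⊓ X = B ⊓ X := eq_of_le_of_card_ge (fun x hx => ⟨hcon x hx, hx.2⟩) (by rw [c1', c2])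
    exact htA (this.ge ⟨htB, htX⟩).1
  have hss := ea_sq hA hs.1
  have e2 : B ⊓ X = B ⊓ 𝐂[s] := eq_of_le_of_card_ge
    (inf_le_inf_left _ (H43.ea_le_centralizer_singleton hXe hs.2))
    (by rw [c2, hS'.c16 s (hXS' hs.2) hsB (by rw [hss]; exact one_mem _)])
  have half1 : ∀ x ∈ X, ∀ y ∈ X, x ∉ A → y ∉ A → x * y ∈ A := fun x hx y hy hx' hy' =>
    (mul_mem_of_half (H := A ⊓ X) inf_le_right (by rw [c1', hXc]) hx hy (fun h => hx' h.1)
      (fun h => hy' h.1)).1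
  have half2 : ∀ x ∈ X, ∀ y ∈ X, x ∉ B → y ∉ B → x * y ∈ B := fun x hx y hy hx' hy' =>
    (mul_mem_of_half (H := B ⊓ X) inf_le_right (by rw [c2, hXc]) hx hy (fun h => hx' h.1)
      (fun h => hy' h.1)).1
  obtain ⟨b, hb, hbs, hbA⟩ : ∃ b ∈ B, b ∉ B ⊓ 𝐂[s] ∧ ⁅b, s⁆ ∈ A := by
    have h4 : 4 ≤ (B ⊓ 𝐂[s]).relIndex B := by
      have := H1.card_mul_relIndex_of_le (inf_le_left : B ⊓ 𝐂[s] ≤ B)
      rw [← e2, c2, hBc] at this
      rw [← e2]; omega
    obtain ⟨b1, hb1, hb1', -⟩ := exists_not_mem_two hB h4 (one_mem B)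
    obtain ⟨b2, hb2, hb2', hb12⟩ := exists_not_mem_two hB h4 hb1
    by_cases k1 : ⁅b1, s⁆ ∈ A
    · exact ⟨b1, hb1, hb1', k1⟩
    by_cases k2 : ⁅b2, s⁆ ∈ A
    · exact ⟨b2, hb2, hb2', k2⟩
    refine ⟨b1 * b2, mul_mem hb1 hb2, hb12, ?_⟩
    have m2 : ⁅b2, s⁆ ∈ B := comm_mem_of_norm' (hS'.norm (hXS' hs.2)) hb2
    have : ⁅b1 * b2, s⁆ = ⁅b2, s⁆ * ⁅b1, s⁆ := by
      rw [← conj_eq_of_mem_centralizer (ea_cent hB hb1) m2]
      simp only [commutatorElement_def]; group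
    rw [this]
    exact half1 _ (comm_mem_of_norm (hBX hb2) hs.2) _ (comm_mem_of_norm (hBX hb1) hs.2) k2 k1
  have hBcomm : ∀ b ∈ B, ∀ x ∈ X, ⁅b, x⁆ ∈ B ⊓ X := fun b hb x hx =>
    ⟨comm_mem_of_norm' (hS'.norm (hXS' hx)) hb, comm_mem_of_norm (hBX hb) hx⟩
  have hAcomm : ∀ a ∈ A, ∀ x ∈ X, ⁅a, x⁆ ∈ A ⊓ X := fun a ha x hx =>
    ⟨comm_mem_of_norm' (hS.norm (hXS hx)) ha, comm_mem_of_norm (hAX ha) hx⟩
  have hX2 := ea2 hXe
  -- first use of the chain
  have key : ∀ a ∈ A, ⁅a, t⁆ ∈ B := by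
    obtain ⟨c, hc', R1, hR1, hP, hQ⟩ := chain_conj (X := X) (H := A ⊓ X) (D := (A ⊓ X) ⊓ B)
      (P := A ⊔ X) (Q := zpowers b) (hX2.to_le inf_le_right) inf_le_left
      (hS.two.to_le (sup_le hS.le hXS)) ((ea2 hB).to_le (zpowers_le.2 hb))
      (sup_le (fun a ha => mem_chainSt_of_high inf_le_left
          (centralizer_anti inf_le_left (ea_cent hA ha)) (hAcomm a ha))
        (fun x hx => mem_chainSt_of_high inf_le_left
          (centralizer_anti inf_le_right (ea_cent hXe hx)) fun y hy => by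
            rw [comm_eq_one_of_cent (ea_cent hXe hx) hy]; exact one_mem _))
      (zpowers_le.2 (mem_chainSt_of_low inf_le_left inf_le_right
        (centralizer_anti inf_le_right (ea_cent hB hb)) fun x hx => by
          refine ⟨⟨?_, (hBcomm b hb x hx).2⟩, (hBcomm b hb x hx).1⟩
          by_cases hxB : x ∈ B
          · rw [comm_eq_one_of_cent (ea_cent hB hb) hxB]; exact one_mem _
          · have h1 := half2 s hs.2 x hx hsB hxB
            have : x = s * (s * x) := by rw [← mul_assoc, hss, one_mul]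
            rw [this, comm_mul_right_of_comm (H43.ea_comm hB hb h1)]
            exact hbA))
    obtain ⟨S1, hS1, hL1⟩ := loc_of h0 hR1 (le_sup_left.trans hP) (ea_cent hA) hc
    have hb' : c * b * c⁻¹ ∈ S1 := hS1 (hQ (cj_mem c (mem_zpowers b)))
    have hcomm : ∀ x ∈ X, x * (c * b * c⁻¹) = (c * b * c⁻¹) * x ↔ x * b = b * x := fun x hx => by
      conv_lhs => rw [← conj_eq_of_mem_centralizer hc' hx]
      rw [conj_mul, conj_mul]
      simp
    intro a ha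
    have h1 := hL1.quad t (hS1 (hP (mem_sup_right htX))) _ hb' (by rw [htt]; exact one_mem _)
      (by rw [conj_mul, ea_sq hB hb]; simp) (by
        rw [commutatorElement_eq_one_iff_mul_comm.2 ((hcomm t htX).2 (H43.ea_comm hB htB hb))]
        exact one_mem _) a ha
    have hx := (hAcomm a ha t htX).2
    rw [hcomm _ hx] at h1
    by_contra hn
    have h2 := H43.ea_comm hB (half2 _ hx s hs.2 hn hsB) hb
    refine hbs ⟨hb, mem_centralizer_singleton_iff.2 ?_⟩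
    rw [mul_assoc, ← mul_assoc b, ← h1, mul_assoc] at h2
    exact (mul_left_cancel h2).symm
  -- second use of the chain
  obtain ⟨c, hc', R2, hR2, hP, hQ⟩ := chain_conj (X := X) (H := B ⊓ X) (D := (B ⊓ X) ⊓ A)
    (P := B) (Q := A) (hX2.to_le inf_le_right) inf_le_left (ea2 hB) (ea2 hA)
    (fun b hb => mem_chainSt_of_high inf_le_left
      (centralizer_anti inf_le_left (ea_cent hB hb)) (hBcomm b hb))
    (fun a ha => mem_chainSt_of_low inf_le_left inf_le_right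
      (centralizer_anti inf_le_right (ea_cent hA ha)) fun x hx => by
        refine ⟨⟨?_, (hAcomm a ha x hx).2⟩, (hAcomm a ha x hx).1⟩
        by_cases hxA : x ∈ A
        · rw [comm_eq_one_of_cent (ea_cent hA ha) hxA]; exact one_mem _
        · have h1 := half1 t htX x hx htA hxA
          have : x = t * (t * x) := by rw [← mul_assoc, htt, one_mul]
          rw [this, comm_mul_right_of_comm (H43.ea_comm hA ha h1)]
          exact key a ha)
  have := eq_of_loc h0 hR2 hQ (H69.ea_cj hA c) (by rw [card_cj, hc]) hP hB hBc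
  rw [← this, mem_cj] at htB
  have h3 := conj_eq_of_mem_centralizer (inv_mem hc') htX
  rw [inv_inv] at h3
  exact htA (h3 ▸ htB)

end H55.SylT
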