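import Mathlib
import Cfsg.Agent.Base
import Cfsg.Agent.Lib.SylT.M24SC
import Cfsg.Agent.Lib.Core.CoprimeAbelian

/-! # Normality of a strongly closed subgroup with quadratic four-groups -/

set_option autoImplicit false
set_option maxHeartbeats 400000

namespace H55.SylT

open Subgroup Cfsg H69 H45 Gold
open scoped commutatorElement

universe u
variable {G : Type u} [Group G] [Finite G]

/-- `T / A` is a four-group acting quadratically on `A`. -/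
structure Four (A T : Subgroup G) : Prop where
  le : A ≤ T
  norm : T ≤ 𝐍(A)
  sq : ∀ f ∈ T, f * f ∈ A
  four : ∃ x ∈ T, ∃ y ∈ T, x ∉ A ∧ y ∉ A ∧ x * y ∉ A
  quad : ∀ f ∈ T, ∀ g ∈ T, ∀ a ∈ A, ⁅a, f⁆ * g = g * ⁅a, f⁆
  mid : ∀ f ∈ T, f ∉ A → ∀ g ∈ T, ∀ a ∈ A, a * f = f * a → ∃ a' ∈ A, ⁅a, g⁆ = ⁅a', f⁆

theorem oddS_quo {A E : Subgroup G} (hE : E ≤ 𝐍(A)) (h : ∀ s ∈ E, El2 s → s ∈ A) :
    OddS (E /ₙ A) := oddS_of_el2 fun x hx h2 => by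
  obtain ⟨e, he, hn, rfl⟩ := mem_quo.1 hx
  obtain ⟨e1, h1, e2, h2', ho, hel, rfl⟩ := exists_parts e
  have k1 := zpowers_le.2 he h1
  have k2 := zpowers_le.2 he h2'
  rw [ap_mul _ (hE k1) (hE k2), coset_id (h e2 k2 hel), mul_one] at h2 ⊢
  exact h2.eq_one (odd_ap _ (hE k1) ho)

theorem Four.cent {A T E : Subgroup G} (h : Four A T) (hA : IsElementaryAbelian 2 A)
    (hAE : A ≤ E) (hE : E ≤ 𝐍(A)) (hTE : T ≤ 𝐍(E)) (h2 : ∀ s ∈ E, El2 s → s ∈ A) {q u : G}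
    (hq : q ∈ E) (hu : u ∈ T) : ⁅q, u⁆ ∈ 𝐂(A) := by
  have hTe : IsElementaryAbelian 2 (T /ₙ A) := ea_of_sq fun x hx => by
    obtain ⟨f, hf, hn, rfl⟩ := mem_quo.1 hx
    rw [← ap_mul _ hn hn, coset_id (h.sq f hf)]
  obtain ⟨x, hx, y, hy, hxA, hyA, hxy⟩ := h.four
  have hne : T /ₙ A ≠ ⊥ := (quotient_neq1 h.norm).2 fun k => hxA (k hx)
  set M : Subgroup G := E ⊓ H2.relCentralizer T 𝐂(A) with hM
  have hAM : A ≤ M := fun a ha => ⟨hAE ha, le_normalizer (ea_cent hA ha), fun z hz =>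
    ea_cent hA (comm_mem_of_norm' (h.norm hz) ha)⟩
  suffices hs : E ≤ M from (hs hq).2.2 u hu
  rw [← quotientSGK hE hAM]
  refine H43.le_of_forall_hyp hTe hne (quotient_norms A hTE) (oddS_quo hE h2) fun D' hD' => ?_
  clear hq hu q u
  rintro _ ⟨hq0, hqc⟩
  obtain ⟨q, hq, hqn, rfl⟩ := mem_quo.1 hq0
  refine mem_quotient A ⟨hq, le_normalizer_centralizer le_rfl hqn, fun u hu => ?_⟩
  set D : Subgroup G := qpre A D' with hD
  have hDT : D ≤ T := qpre_le_of_le_quo h.le hD'.le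
  obtain ⟨f, hf, hfA⟩ : ∃ f ∈ D, f ∉ A := by
    by_cases k1 : ap (coset A) x ∈ D'
    · exact ⟨x, mem_qpre.2 ⟨h.norm hx, k1⟩, hxA⟩
    by_cases k2 : ap (coset A) y ∈ D'
    · exact ⟨y, mem_qpre.2 ⟨h.norm hy, k2⟩, hyA⟩
    refine ⟨x * y, mem_qpre.2 ⟨h.norm (mul_mem hx hy), ?_⟩, hxy⟩
    rw [ap_mul _ (h.norm hx) (h.norm hy)]
    exact mul_mem_of_half hD'.le hD'.card (mem_quotient A hx) (mem_quotient A hy) k1 k2
  have hqD : q ∈ 𝐍(D) := by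
    rw [← cj_eq_self_iff, hD, ← cosetpreJ _ hqn, cj_eq_of_mem_centralizer hqc]
  have hle : ⁅A, D⁆ ≤ A ⊓ 𝐂(D) := commutator_le.2 fun a ha d hd =>
    ⟨comm_mem_of_norm' (h.norm (hDT hd)) ha, fun z hz => (h.quad d (hDT hd) z (hDT hz) a ha).symm⟩
  have huY : u ∈ chainSt A (A ⊓ 𝐂(D)) ⁅A, D⁆ := by
    refine mem_chainSt hle (centsC.1 (commutator_le.2 fun a ha d hd => ?_) (mem_zpowers u)) ?_ ?_
    · rw [centralizer_zpowers]
      exact mem_centralizer_singleton_iff.2 (h.quad d (hDT hd) u hu a ha)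
    · intro a ha
      obtain ⟨a', ha', e⟩ := h.mid f (hDT hf) hfA u hu a ha.1 (ha.2 f hf).symm
      rw [← commutatorElement_inv, e]
      exact inv_mem (commutator_mem_commutator ha' hf)
    · intro a ha
      rw [← commutatorElement_inv]
      exact inv_mem ⟨comm_mem_of_norm' (h.norm hu) ha, fun z hz =>
        (h.quad u hu z (hDT hz) a ha).symm⟩
  have hqY : q ∈ 𝐍(chainSt A (A ⊓ 𝐂(D)) ⁅A, D⁆) := norm_chainSt hqn
    (zpowers_le.1 (le_normalizer_inf (zpowers_le.2 hqn)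
      (le_normalizer_centralizer (zpowers_le.2 hqD))))
    (zpowers_le.1 (le_normalizer_commutator (zpowers_le.2 hqn) (zpowers_le.2 hqD)))
  have hw := comm_mem_of_norm hqY huY
  have hwE : ⁅q, u⁆ ∈ E := comm_mem_of_norm' (hTE hu) hq
  obtain ⟨w1, h1, w2, h2', ho, hel, e⟩ := exists_parts ⁅q, u⁆
  rw [e]
  exact mul_mem (cent_of_chainSt ((ea2 hA).to_le inf_le_left) hle (zpowers_le.2 hw h1) ho)
    (ea_cent hA (h2 w2 (zpowers_le.2 hwE h2') hel))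

/-- A relative form of the `P × Q` lemma. -/
theorem cent_of_rel {A S : Subgroup G} (hA : IsElementaryAbelian 2 A) (hS : IsPGroup 2 S)
    (hn : S ≤ 𝐍(A)) {y : G} (hy : y ∈ 𝐍(A)) (ho : Odd (orderOf y))
    (h1 : ∀ s ∈ S, ⁅y, s⁆ ∈ 𝐂(A)) (h2 : ∀ c ∈ A, c ∈ 𝐂(S) → c * y = y * c) : y ∈ 𝐂(A) := by
  have hyA : zpowers y ≤ 𝐍(A) := zpowers_le.2 hy
  have e : ⁅A, 𝐂(A) ⊔ zpowers y⁆ = ⁅A, zpowers y⁆ := by
    refine le_antisymm (commutator_le.2 fun a ha g hg => ?_) (commutator_mono le_rfl le_sup_right)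
    obtain ⟨c, hc, w, hw, rfl⟩ :=
      (mem_sup_of_le_normalizer_left (le_normalizer_centralizer hyA)).1 hg
    have : ⁅a, c * w⁆ = a * (c * (w * a⁻¹ * w⁻¹) * c⁻¹) := by
      simp only [commutatorElement_def]; group
    rw [this, conj_eq_of_mem_centralizer hc (conj_mem_of_mem_normalizer (hyA hw) (inv_mem ha))]
    have : a * (w * a⁻¹ * w⁻¹) = ⁅a, w⁆ := by simp only [commutatorElement_def]; group
    rw [this]
    exact commutator_mem_commutator ha hw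
  have hSY : S ≤ 𝐍(𝐂(A) ⊔ zpowers y) := le_normalizer_of_cj_le fun s hs => by
    rw [cj_sup, cj_eq_of_mem_normalizer (le_normalizer_centralizer hn hs), cj_zpowers]
    refine sup_le le_sup_left (zpowers_le.2 ?_)
    have : s * y * s⁻¹ = ⁅y, s⁆⁻¹ * y := by simp only [commutatorElement_def]; group
    rw [this]
    exact mul_mem (mem_sup_left (inv_mem (h1 s hs))) (mem_sup_right (mem_zpowers y))
  have hSU : S ≤ 𝐍(⁅A, zpowers y⁆) := e ▸ le_normalizer_commutator hn hSY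
  have hUA : ⁅A, zpowers y⁆ ≤ A := commutator_le_left_of_le_normalizer hyA
  by_cases hU : ⁅A, zpowers y⁆ = ⊥
  · exact centsC.1 (le_centralizer_of_commutator_eq_bot hU) (mem_zpowers y)
  · exfalso
    refine inf_centralizer_ne_bot ((ea2 hA).to_le hUA) hS hSU hU (eq_bot_iff.2 ?_)
    rw [← H2.commutator_inf_centralizer_eq_bot hA.1 hyA
      ((oddS_zpowers ho).coprime (ea2 hA)).symm, centralizer_zpowers]
    exact fun c hc => ⟨hc.1, mem_centralizer_singleton_iff.2 (h2 c (hUA hc.1) hc.2)⟩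

/-- The global data. -/
structure Glob (S A : Subgroup G) : Prop where
  loc : Loc S A
  split : ∀ s ∈ S, s * s ∈ A → ∃ a ∈ A, a * s * (a * s) = 1

/-- The data used for the last step. -/
structure Fin2 (S A : Subgroup G) : Prop where
  ex : ∃ T₁ T₂ : Subgroup G, Four A T₁ ∧ Four A T₂ ∧ T₁ ≤ S ∧ T₂ ≤ S ∧
    ∀ s ∈ S, ∃ x ∈ T₁, ∃ y ∈ T₂, s = x * y
  zc : ∃ f ∈ S, ∃ g ∈ S, ∃ a₁ ∈ A, ∃ a₂ ∈ A, ⁅a₁, f⁆ ∈ 𝐂(S) ∧ ⁅a₂, g⁆ ∈ 𝐂(S) ∧
    (∀ a ∈ A, ⁅a, f⁆ ∈ 𝐂(S) → ⁅a, f⁆ = 1 ∨ ⁅a, f⁆ = ⁅a₁, f⁆) ∧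
    (∀ a ∈ A, ⁅a, g⁆ ∈ 𝐂(S) → ⁅a, g⁆ = 1 ∨ ⁅a, g⁆ = ⁅a₂, g⁆) ∧
    ∀ c ∈ A, c ∈ 𝐂(S) → c = 1 ∨ c = ⁅a₁, f⁆ ∨ c = ⁅a₂, g⁆ ∨ c = ⁅a₁, f⁆ * ⁅a₂, g⁆

theorem normal_of_glob {S A : Subgroup G}
    (h0 : ∀ R : Subgroup G, IsPGroup 2 R → ∃ S A, R ≤ S ∧ Glob S A)
    (hL : Loc S A) (hF : Fin2 S A) : (A ⊔ pPrimeCore 2 G).Normal := by
  have hA := hL.ea
  have c : Ctx A ⊤ := ctx hA (sc_of_loc (fun R hR => by
    obtain ⟨S, A, h1, h2⟩ := h0 R hR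
    exact ⟨S, A, h1, h2.loc⟩) hA hL.card)
  refine normal_of_no_fac c (no_fac_of_cent c fun y hyK hy ho => ?_)
  set E : Subgroup G := ncl A ⊤ ⊓ 𝐍(A) with hE
  have h2 : ∀ s ∈ E, El2 s → s ∈ A := fun s hs hel => by
    by_contra hn
    obtain ⟨j, hj, hj'⟩ := hel.exists_pow hn
    obtain ⟨S', A', hS', hG⟩ := h0 (A ⊔ zpowers s)
      (isPGroup_sup_of_le_normalizer_left (ea2 hA) hel.isPGroup (zpowers_le.2 hs.2))
    obtain rfl := hG.loc.uniq A (le_sup_left.trans hS') (ea_cent hA) hL.card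
    have hsS : s ^ 2 ^ j ∈ S' := pow_mem (hS' (mem_sup_right (mem_zpowers s))) _
    obtain ⟨a, ha, e⟩ := hG.split _ hsS hj'
    have hc := inv_cent c (mul_mem (c.le_K ha) (pow_mem hs.1 _))
      (mul_mem (le_normalizer ha) (pow_mem hs.2 _)) fun C _ => by rw [e]; exact one_mem _
    have := hG.loc.c16 _ (mul_mem (hG.loc.le ha) hsS)
      (fun k => hj (by simpa using mul_mem (inv_mem ha) k)) (by rw [e]; exact one_mem _)
    rw [inf_eq_left.2 (fun x hx => mem_centralizer_singleton_iff.2 (hc x hx)), hL.card] at this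
    omega
  have hSE : S ≤ 𝐍(E) := le_normalizer_inf (le_top.trans (le_normalizer_ncl A ⊤))
    (le_normalizer_normalizer hL.norm)
  obtain ⟨T₁, T₂, f1, f2, l1, l2, hgen⟩ := hF.ex
  have hAE : A ≤ E := le_inf c.le_K le_normalizer
  have h1 : ∀ s ∈ S, ⁅y, s⁆ ∈ 𝐂(A) := fun s hs => by
    obtain ⟨x, hx, z, hz, rfl⟩ := hgen s hs
    have : ⁅y, x * z⁆ = ⁅y, x⁆ * (x * ⁅y, z⁆ * x⁻¹) := by
      simp only [commutatorElement_def]; group
    rw [this]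
    exact mul_mem (f1.cent hA hAE inf_le_right (l1.trans hSE) h2 ⟨hyK, hy⟩ hx)
      (conj_mem_of_mem_normalizer (le_normalizer_centralizer f1.norm hx)
        (f2.cent hA hAE inf_le_right (l2.trans hSE) h2 ⟨hyK, hy⟩ hz))
  refine cent_of_rel hA hL.two hL.norm hy ho h1 ?_
  have act : ∀ s ∈ S, ∀ a ∈ A, ⁅y * a * y⁻¹, s⁆ = y * ⁅a, s⁆ * y⁻¹ := fun s hs a ha => by
    have k := conj_eq_of_mem_centralizer (h1 s hs) (conj_mem_of_mem_normalizer (hL.norm hs)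
      (conj_mem_of_mem_normalizer hy (inv_mem ha)))
    calc ⁅y * a * y⁻¹, s⁆ = y * a * y⁻¹ * (s * (y * a⁻¹ * y⁻¹) * s⁻¹) := by
          simp only [commutatorElement_def]; group
      _ = y * ⁅a, s⁆ * y⁻¹ := by rw [← k]; simp only [commutatorElement_def]; group
  have fix : ∀ f ∈ S, ∀ a₁ ∈ A, ⁅a₁, f⁆ ∈ 𝐂(S) →
      (∀ a ∈ A, ⁅a, f⁆ ∈ 𝐂(S) → ⁅a, f⁆ = 1 ∨ ⁅a, f⁆ = ⁅a₁, f⁆) → ⁅a₁, f⁆ * y = y * ⁅a₁, f⁆ := by
    intro f hf a₁ ha₁ k1 k2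
    have m : ⁅a₁, f⁆ ∈ A := comm_mem_of_norm' (hL.norm hf) ha₁
    rcases k2 _ (conj_mem_of_mem_normalizer hy ha₁) (fun s hs => by
      rw [act f hf a₁ ha₁, eq_comm, ← commutatorElement_eq_one_iff_mul_comm, act s hs _ m,
        comm_eq_one_of_cent k1 hs]
      group) with k | k
    · rw [act f hf a₁ ha₁] at k
      have : ⁅a₁, f⁆ = 1 := by simpa using k
      rw [this]; group
    · rw [act f hf a₁ ha₁] at k
      exact (mul_inv_eq_iff_eq_mul.1 k).symm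
  obtain ⟨f, hf, g, hg, a₁, ha₁, a₂, ha₂, z1, z2, z3, z4, z5⟩ := hF.zc
  have p1 := fix f hf a₁ ha₁ z1 z3
  have p2 := fix g hg a₂ ha₂ z2 z4
  intro c hc hc'
  rcases z5 c hc hc' with rfl | rfl | rfl | rfl
  · group
  · exact p1
  · exact p2
  · rw [mul_assoc, p2, ← mul_assoc, p1, mul_assoc]

end H55.SylT
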