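import Mathlib
import Cfsg.Agent.Base
import Cfsg.Agent.Lib.SylT.M24N
import Cfsg.Agent.Lib.SylT.U5Facts
import Cfsg.Agent.Lib.SylT.U5Q

/-! # Groups with a Sylow 2-subgroup isomorphic to `UT₅(2)` modulo its centre -/

set_option autoImplicit false
set_option maxHeartbeats 400000
set_option maxRecDepth 100000

namespace H55.SylT

open Subgroup Cfsg H69 H45 Gold
open scoped commutatorElement

universe u

section transport
variable {G : Type u} [Group G] (ι : S9 →* G) (hι : Function.Injective ι)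
include hι

theorem mem_mapA {x : S9} : ι x ∈ S9.A0.map ι ↔ x ∈ S9.A0 := mem_map_iff_mem hι

theorem loc_model : Loc ι.range (S9.A0.map ι) where
  two := S9.isPGroup.of_surjective ι.rangeRestrict ι.rangeRestrict_surjective
  le := map_le_range _ _
  ea := H43.ea_map (ea_of_sq fun _ h => S9.A0_sq h) ι
  norm := by
    rw [MonoidHom.range_eq_map]
    exact (map_mono (normal_iff_top_le_normalizer.1 inferInstance)).trans (le_normalizer_map ι)
  card := by rw [card_map_of_injective hι, S9.card_A0]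
  uniq B h1 h2 h3 := by
    have e := map_comap_eq_self h1
    rw [← e, S9.uniq (B.comap ι) (fun x hx y hy => hι (by
      rw [map_mul, map_mul]; exact h2 hy _ hx)) (by rw [← card_map_of_injective hι, e, h3])]
  c16 := by
    rintro _ ⟨t, rfl⟩ h1 h2
    rw [← map_mul, mem_mapA ι hι] at h2
    rw [← S9.c16 (fun h => h1 (mem_map_of_mem ι h)) h2, ← card_map_of_injective hι]
    congr 2
    ext x
    constructor
    · rintro ⟨⟨a, ha, rfl⟩, h⟩
      refine ⟨a, ⟨ha, mem_centralizer_singleton_iff.2 (hι ?_)⟩, rfl⟩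
      rw [map_mul, map_mul]; exact mem_centralizer_singleton_iff.1 h
    · rintro ⟨a, ha, rfl⟩
      refine ⟨mem_map_of_mem ι ha.1, mem_centralizer_singleton_iff.2 ?_⟩
      rw [← map_mul, ← map_mul, mem_centralizer_singleton_iff.1 ha.2]
  quad := by
    rintro _ ⟨x, rfl⟩ _ ⟨y, rfl⟩ h1 h2 h3 _ ⟨a, ha, rfl⟩
    rw [← map_mul, mem_mapA ι hι] at h1 h2
    rw [← map_commutatorElement, mem_mapA ι hι] at h3
    rw [← map_commutatorElement, ← map_mul, ← map_mul, S9.quad h1 h2 h3 ha]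

theorem glob_model : Glob ι.range (S9.A0.map ι) where
  loc := loc_model ι hι
  split := by
    rintro _ ⟨s, rfl⟩ h
    rw [← map_mul, mem_mapA ι hι] at h
    obtain ⟨a, ha, e⟩ := S9.split h
    exact ⟨ι a, mem_map_of_mem ι ha, by rw [← map_mul, ← map_mul, e, map_one]⟩

theorem four_model {T : Subgroup S9} (h1 : S9.A0 ≤ T) (h2 : ∀ x ∈ T, x * x ∈ S9.A0)
    (h3 : ∃ x ∈ T, ∃ y ∈ T, x ∉ S9.A0 ∧ y ∉ S9.A0 ∧ x * y ∉ S9.A0) :
    Four (S9.A0.map ι) (T.map ι) := by
  have hc : ∀ x ∈ T, ∀ y ∈ T, ⁅x, y⁆ ∈ S9.A0 := fun x hx y hy => by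
    have k1 := h2 x hx
    have k2 := h2 y hy
    have k3 := h2 _ (mul_mem hx hy)
    rw [S9.mem_A0, map_mul] at k1 k2 k3
    rw [map_mul] at k3
    rw [S9.mem_A0, map_commutatorElement, commutatorElement_def, inv_eq_of_mul_eq_one_right k1,
      inv_eq_of_mul_eq_one_right k2, mul_assoc, k3]
  refine ⟨map_mono h1, (map_le_range _ _).trans (loc_model ι hι).norm, ?_, ?_, ?_, ?_⟩
  · rintro _ ⟨f, hf, rfl⟩
    rw [← map_mul]; exact mem_map_of_mem ι (h2 f hf)
  · obtain ⟨x, hx, y, hy, k1, k2, k3⟩ := h3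
    refine ⟨ι x, mem_map_of_mem ι hx, ι y, mem_map_of_mem ι hy, ?_, ?_, ?_⟩
    · rwa [mem_mapA ι hι]
    · rwa [mem_mapA ι hι]
    · rwa [← map_mul, mem_mapA ι hι]
  · rintro _ ⟨f, hf, rfl⟩ _ ⟨g, hg, rfl⟩ _ ⟨a, ha, rfl⟩
    rw [← map_commutatorElement, ← map_mul, ← map_mul, S9.quad (h2 f hf) (h2 g hg) (hc f hf g hg) ha]
  · rintro _ ⟨f, hf, rfl⟩ hfA _ ⟨g, hg, rfl⟩ _ ⟨a, ha, rfl⟩ e
    rw [← map_mul, ← map_mul] at e
    obtain ⟨a', ha', e'⟩ := S9.mid (fun h => hfA (mem_map_of_mem ι h)) (h2 f hf) (h2 g hg)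
      (hc f hf g hg) ha (hι e)
    exact ⟨ι a', mem_map_of_mem ι ha', by rw [← map_commutatorElement, e', map_commutatorElement]⟩

theorem fin2_model : Fin2 ι.range (S9.A0.map ι) where
  ex := by
    refine ⟨S9.T1.map ι, S9.T2.map ι, four_model ι hι (fun x h => (S9.A0_T x h).1) S9.T1_sq
      ⟨S9.dd true false false, rfl, S9.dd false true false, rfl, by decide, by decide, by decide⟩,
      four_model ι hι (fun x h => (S9.A0_T x h).2) S9.T2_sq
      ⟨S9.dd false false true, rfl, S9.dd false true false, rfl, by decide, by decide, by decide⟩,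
      map_le_range _ _, map_le_range _ _, ?_⟩
    rintro _ ⟨s, rfl⟩
    exact ⟨_, mem_map_of_mem ι (S9.gen_T s), ι (S9.dd false false s.w), mem_map_of_mem ι rfl,
      by rw [← map_mul, inv_mul_cancel_right]⟩
  zc := by
    have hc : ∀ x y : S9, ι x ∈ 𝐂(ι.range) → y * x = x * y := fun x y h =>
      hι (by rw [map_mul, map_mul]; exact h _ ⟨y, rfl⟩)
    have e1 : ⁅ι S9.gb, ι S9.g3⁆ = ι S9.p0 := (map_commutatorElement ι _ _).symm
    have e2 : ⁅ι S9.gq, ι S9.g2⁆ = ι S9.q0 := (map_commutatorElement ι _ _).symm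
    refine ⟨ι S9.g3, ⟨_, rfl⟩, ι S9.g2, ⟨_, rfl⟩, ι S9.gb, mem_map_of_mem ι rfl, ι S9.gq,
      mem_map_of_mem ι rfl, ?_, ?_, ?_, ?_, ?_⟩
    · rintro _ ⟨x, rfl⟩
      rw [e1, ← map_mul, ← map_mul, S9.p0_cent]
    · rintro _ ⟨x, rfl⟩
      rw [e2, ← map_mul, ← map_mul, S9.q0_cent]
    · rintro _ ⟨a, ha, rfl⟩ h
      rw [e1, ← map_commutatorElement] at *
      rcases S9.p0_uniq a (S9.mem_allA ha) (hc _ _ h) with k | k
      · exact Or.inl (by rw [← map_one ι]; exact congrArg ι k)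
      · exact Or.inr (congrArg ι k)
    · rintro _ ⟨a, ha, rfl⟩ h
      rw [e2, ← map_commutatorElement] at *
      rcases S9.q0_uniq a (S9.mem_allA ha) (hc _ _ h) with k | k
      · exact Or.inl (by rw [← map_one ι]; exact congrArg ι k)
      · exact Or.inr (congrArg ι k)
    · rintro _ ⟨a, ha, rfl⟩ h
      rw [e1, e2, ← map_mul, ← map_one ι]
      rcases S9.z_four a (S9.mem_allA ha) (hc _ _ h) (hc _ _ h) with k | k | k | k <;> simp [k]

end transport

theorem m24_main {G : Type u} [Group G] [Finite G] (S : Sylow 2 G) (ι : S9 →* G)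
    (hι : Function.Injective ι) (hr : ι.range = S) : (S9.A0.map ι ⊔ pPrimeCore 2 G).Normal := by
  refine normal_of_glob (fun R hR => ?_) (loc_model ι hι) (fin2_model ι hι)
  obtain ⟨Q, hQ⟩ := hR.exists_le_sylow
  obtain ⟨g, rfl⟩ := MulAction.exists_smul_eq G S Q
  refine ⟨_, _, ?_, glob_model ((MulAut.conj g).toMonoidHom.comp ι)
    ((MulAut.conj g).injective.comp hι)⟩
  rw [MonoidHom.range_comp, hr]
  exact hQ

end H55.SylT
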